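import Mathlib
import Groth.Agent.CohFinite.Generic
import Groth.Agent.DepthLib.RegularLocal

/-!
# Cutting quasi-finite curves over a one-dimensional regular base
-/

set_option autoImplicit false
set_option backward.isDefEq.respectTransparency false
universe u

open CategoryTheory AlgebraicGeometry Topology

namespace Groth.Agent.CurveCut

theorem eq_maximalIdeal_of_forall_mem {S : Type u} [CommRing S] [IsDomain S] [IsLocalRing S] [IsNoetherianRing S]
    {a : S} (ha0 : a ≠ 0) (ha : ∀ Q : Ideal S, Q.IsPrime → Q ≠ ⊥ → a ∈ Q)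
    (Q : Ideal S) (hQ : Q.IsPrime) (hQ0 : Q ≠ ⊥) : Q = IsLocalRing.maximalIdeal S := by
  classical
  let s := (Ideal.span {a}).minimalPrimes
  have hs : s.Finite := Ideal.finite_minimalPrimes_of_isNoetherianRing S _
  have hm : ∃ P ∈ s, IsLocalRing.maximalIdeal S ≤ P := by
    by_contra h
    push Not at h
    have : ¬ ((IsLocalRing.maximalIdeal S : Ideal S) : Set S) ⊆ ⋃ P ∈ hs.toFinset, (P : Set S) := fun hc => by
      obtain ⟨P, hP, hle⟩ := (Ideal.subset_union_prime (s := hs.toFinset) (f := id) ⊥ ⊥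
        (fun P hP _ _ => (hs.mem_toFinset.1 hP).1.1)).1 hc
      exact h P (hs.mem_toFinset.1 hP) hle
    obtain ⟨x, hxm, hx⟩ := Set.not_subset.1 this
    obtain ⟨P, hP, hPm⟩ := Ideal.exists_minimalPrimes_le (J := IsLocalRing.maximalIdeal S) (I := Ideal.span {x})
      ((Ideal.span_singleton_le_iff_mem _).2 hxm)
    have : P.IsPrime := hP.1.1
    have hxP : x ∈ P := hP.1.2 (Ideal.mem_span_singleton_self x)
    have hP0 : P ≠ ⊥ := fun h0 => by
      rw [h0, Ideal.mem_bot] at hxP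
      obtain ⟨P₀, hP₀⟩ := Ideal.nonempty_minimalPrimes (I := Ideal.span {a}) (fun h1 => by
        exact hQ.ne_top (top_le_iff.1 (h1.ge.trans ((Ideal.span_singleton_le_iff_mem _).2 (ha Q hQ hQ0)))))
      exact hx (Set.mem_biUnion (hs.mem_toFinset.2 hP₀) (hxP ▸ P₀.zero_mem))
    obtain ⟨P₀, hP₀, hP₀P⟩ := Ideal.exists_minimalPrimes_le (J := P) (I := Ideal.span {a})
      ((Ideal.span_singleton_le_iff_mem _).2 (ha P inferInstance hP0))
    have : P₀.IsPrime := hP₀.1.1
    have hP₀0 : P₀ ≠ ⊥ := fun h0 => ha0 (Ideal.mem_bot.1 (h0.le (hP₀.1.2 (Ideal.mem_span_singleton_self a))))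
    rcases hP₀P.eq_or_lt with e | hlt
    · exact hx (Set.mem_biUnion (hs.mem_toFinset.2 hP₀) (e ▸ hxP))
    · have h1 : P₀.height < P.height := Ideal.height_strict_mono_of_isPrime hlt
      have h2 : P.height ≤ 1 := Ideal.height_le_one_of_isPrincipal_of_mem_minimalPrimes _ P hP
      have h3 : (⊥ : Ideal S).height < P₀.height :=
        Ideal.height_strict_mono_of_isPrime (bot_lt_iff_ne_bot.2 hP₀0)
      have h4 : P₀.height = 0 := Order.lt_one_iff.1 (h1.trans_le h2)
      exact not_lt_zero (h4 ▸ h3)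
  obtain ⟨P, hP, hmP⟩ := hm
  have : IsLocalRing.maximalIdeal S ≤ Q :=
    hmP.trans (hP.2 ⟨hQ, (Ideal.span_singleton_le_iff_mem _).2 (ha Q hQ hQ0)⟩
      ((IsLocalRing.le_maximalIdeal hQ.ne_top).trans hmP))
  exact le_antisymm (IsLocalRing.le_maximalIdeal hQ.ne_top) this

/-- A maximal prime over the generic point of a one-dimensional base only specialises to the closed point
inside the closed fibre. -/
theorem exists_prime_cut {R S : Type u} [CommRing R] [IsLocalRing R] [CommRing S] [IsLocalRing S]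
    [IsNoetherianRing S] (hR : ∀ P : Ideal R, P.IsPrime → P = ⊥ ∨ P = IsLocalRing.maximalIdeal R)
    (φ : R →+* S) [IsLocalHom φ] (Q₀ : Ideal S) [Q₀.IsPrime] (hQ₀ : Q₀.comap φ = ⊥) :
    ∃ Q : Ideal S, Q₀ ≤ Q ∧ Q.IsPrime ∧ Q.comap φ = ⊥ ∧
      ∀ Q' : Ideal S, Q'.IsPrime → Q ≤ Q' → Q'.comap φ = IsLocalRing.maximalIdeal R →
        Q' = IsLocalRing.maximalIdeal S := by
  obtain ⟨Q, ⟨hQ₀Q, hQ, hQc⟩, hmax⟩ : ∃ Q : Ideal S, (Q₀ ≤ Q ∧ Q.IsPrime ∧ Q.comap φ = ⊥) ∧
      ∀ I : Ideal S, Q₀ ≤ I ∧ I.IsPrime ∧ I.comap φ = ⊥ → ¬ Q < I :=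
    set_has_maximal_iff_noetherian.2 (inferInstance : IsNoetherian S S)
      ({Q : Ideal S | Q₀ ≤ Q ∧ Q.IsPrime ∧ Q.comap φ = ⊥}) ⟨Q₀, le_rfl, inferInstance, hQ₀⟩
  refine ⟨Q, hQ₀Q, hQ, hQc, fun Q' hQ' hle hQ'c => ?_⟩
  rcases eq_or_ne (IsLocalRing.maximalIdeal R) ⊥ with hm | hm
  · have h1 : Q₀ ≤ IsLocalRing.maximalIdeal S ∧ (IsLocalRing.maximalIdeal S).IsPrime ∧
        (IsLocalRing.maximalIdeal S).comap φ = ⊥ :=
      ⟨IsLocalRing.le_maximalIdeal Ideal.IsPrime.ne_top', inferInstance,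
        (IsLocalRing.maximalIdeal_comap φ).trans hm⟩
    have h2 : Q = IsLocalRing.maximalIdeal S :=
      eq_of_le_of_not_lt (IsLocalRing.le_maximalIdeal hQ.ne_top) (hmax _ h1)
    exact le_antisymm (IsLocalRing.le_maximalIdeal hQ'.ne_top) (h2 ▸ hle)
  obtain ⟨r, hr, hr0⟩ := Submodule.exists_mem_ne_zero_of_ne_bot hm
  have : Nontrivial (S ⧸ Q) := Ideal.Quotient.nontrivial_iff.2 hQ.ne_top
  have : IsLocalRing (S ⧸ Q) := .of_surjective' _ Ideal.Quotient.mk_surjective
  have ha0 : Ideal.Quotient.mk Q (φ r) ≠ 0 := fun h => hr0 (by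
    have h1 : r ∈ Q.comap φ := Ideal.mem_comap.2 (Ideal.Quotient.eq_zero_iff_mem.1 h)
    rw [hQc] at h1
    exact h1)
  have hne : ∀ P : Ideal (S ⧸ Q), P ≠ ⊥ → Q < P.comap (Ideal.Quotient.mk Q) := fun P hP => by
    refine lt_of_le_of_ne (fun x hx => ?_) fun h => hP ?_
    · show Ideal.Quotient.mk Q x ∈ P
      rw [Ideal.Quotient.eq_zero_iff_mem.2 hx]
      exact P.zero_mem
    · rw [← Ideal.map_comap_of_surjective _ Ideal.Quotient.mk_surjective P, ← h]
      exact Ideal.map_quotient_self Q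
  have hmem : ∀ P : Ideal (S ⧸ Q), P.IsPrime → P ≠ ⊥ → Ideal.Quotient.mk Q (φ r) ∈ P := fun P hP hP0 => by
    have hlt := hne P hP0
    rcases hR ((P.comap (Ideal.Quotient.mk Q)).comap φ) inferInstance with h | h
    · exact absurd hlt (hmax _ ⟨hQ₀Q.trans hlt.le, inferInstance, h⟩)
    · exact (h.ge hr :)
  rcases hle.eq_or_lt with e | hlt
  · exact absurd ((e ▸ hQc : Q'.comap φ = ⊥) ▸ hQ'c).symm hm
  have hker : RingHom.ker (Ideal.Quotient.mk Q) ≤ Q' := by rw [Ideal.mk_ker]; exact hle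
  have hP : (Q'.map (Ideal.Quotient.mk Q)).IsPrime :=
    Ideal.map_isPrime_of_surjective Ideal.Quotient.mk_surjective hker
  have hback : (Q'.map (Ideal.Quotient.mk Q)).comap (Ideal.Quotient.mk Q) = Q' := by
    rw [Ideal.comap_map_of_surjective' _ Ideal.Quotient.mk_surjective, sup_eq_left]
    exact hker
  have heq := eq_maximalIdeal_of_forall_mem ha0 hmem _ hP fun h => hlt.ne (by
    rw [← hback, h]
    exact (RingHom.ker_eq_comap_bot _).symm.trans Ideal.mk_ker |>.symm)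
  rw [← hback, heq]
  exact IsLocalRing.eq_maximalIdeal (Ideal.comap_isMaximal_of_surjective _ Ideal.Quotient.mk_surjective)

/-- In a locally Noetherian scheme a point with no proper generisation and no proper specialisation is open. -/
theorem isOpen_singleton_of_isolated {F : Scheme.{u}} [IsLocallyNoetherian F] (p : F)
    (hgen : ∀ q : F, q ⤳ p → q = p) (hspec : ∀ q : F, p ⤳ q → q = p) : IsOpen ({p} : Set F) := by
  obtain ⟨W, hW, hp, -⟩ := exists_isAffineOpen_mem_and_subset (X := F) (x := p) (U := ⊤) trivial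
  have := IsLocallyNoetherian.component_noetherian ⟨W, hW⟩
  have := noetherianSpace_of_isAffineOpen W hW
  let p' : ↥W.toScheme := ⟨p, hp⟩
  have hind : IsInducing (Subtype.val : ↥W.toScheme → F) := IsInducing.subtypeVal
  have hgen' : ∀ q : ↥W.toScheme, q ⤳ p' → q = p' := fun q hq => Subtype.ext (hgen _ (hind.specializes_iff.2 hq))
  have hC : irreducibleComponent p' = {p'} := by
    obtain ⟨z, hz⟩ := QuasiSober.sober (α := ↥W.toScheme) isIrreducible_irreducibleComponent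
      isClosed_irreducibleComponent
    have hzp : z = p' := hgen' z (hz.specializes mem_irreducibleComponent)
    refine Set.eq_singleton_iff_unique_mem.2 ⟨mem_irreducibleComponent, fun q hq => ?_⟩
    exact Subtype.ext (hspec _ (hind.specializes_iff.2 (hzp ▸ hz.specializes hq)))
  obtain ⟨o, ho, ⟨q, hq⟩, hsub⟩ := TopologicalSpace.NoetherianSpace.exists_isOpen_nonempty_subset_irreducibleComponent
    (α := ↥W.toScheme) (irreducibleComponent p') (irreducibleComponent_mem_irreducibleComponents p')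
  have hop : IsOpen ({p'} : Set ↥W.toScheme) := by
    have : o = {p'} := Set.Subset.antisymm (hC ▸ hsub) fun x hx => by
      rw [Set.mem_singleton_iff] at hx
      rw [hx, ← show q = p' from (hC ▸ hsub) hq]
      exact hq
    exact this ▸ ho
  have h := W.2.isOpenMap_subtype_val _ hop
  convert h using 1
  exact (Set.image_singleton (f := fun w : ↥W.toScheme => w.1) (a := p')).symm

theorem quasiFiniteAt_of_isolated {Z Y : Scheme.{u}} (g : Z ⟶ Y) [LocallyOfFiniteType g] (a : Z)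
    (hgen : ∀ b : Z, g.base b = g.base a → b ⤳ a → b = a) (hspec : ∀ b : Z, g.base b = g.base a → a ⤳ b → b = a) :
    g.QuasiFiniteAt a := by
  rw [Scheme.Hom.quasiFiniteAt_iff_isOpen_singleton_asFiber]
  have : LocallyOfFiniteType (g.fiberToSpecResidueField (g a)) := MorphismProperty.pullback_snd _ _ inferInstance
  have := LocallyOfFiniteType.isLocallyNoetherian (g.fiberToSpecResidueField (g a))
  have key : ∀ q : g.fiber (g a), g (g.fiberι _ q) = g a := fun q => by
    have := (g.fiberHomeo (g a) q).2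
    exact this
  have hi : IsInducing (g.fiberι (g a)) := (g.fiberι (g a)).isEmbedding.isInducing
  have hinj : Function.Injective (g.fiberι (g a)) := (g.fiberι (g a)).isEmbedding.injective
  refine isOpen_singleton_of_isolated (g.asFiber a) (fun q hq => hinj ?_) (fun q hq => hinj ?_)
  · refine (hgen _ (key q) ?_).trans (g.fiberι_asFiber a).symm
    have h := hi.specializes_iff.2 hq
    rwa [g.fiberι_asFiber a] at h
  · refine (hspec _ (key q) ?_).trans (g.fiberι_asFiber a).symm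
    have h := hi.specializes_iff.2 hq
    rwa [g.fiberι_asFiber a] at h

/-- A quasi-finite integral curve through `x` inside `closure {t}`. -/
theorem exists_curve {X Y : Scheme.{u}} [IsLocallyNoetherian Y] (f : X ⟶ Y) [LocallyOfFiniteType f] {x t : X}
    (htx : t ⤳ x) (hdom : Dense ({f.base t} : Set Y))
    (hclosed : ∀ x' : X, f.base x' = f.base x → x ⤳ x' → x' = x)
    (hiso : ∀ z : X, f.base z = f.base x → t ⤳ z → z ⤳ x → z = x) :
    ∃ (T : Scheme.{u}) (i : T ⟶ X), IsImmersion i ∧ IrreducibleSpace ↥T ∧ IsReduced T ∧ x ∈ Set.range i.base ∧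
      Set.range i.base ⊆ closure {t} ∧
      LocallyOfFiniteType (i ≫ f) ∧ LocallyQuasiFinite (i ≫ f) ∧ QuasiCompact (i ≫ f) ∧ IsDominant (i ≫ f) := by
  obtain ⟨Z, i, _, _, hr⟩ := CohFinite.exists_integral_subscheme t
  have hmem : ∀ z, t ⤳ z → ∃ b, i b = z := fun z hz => by
    have : z ∈ Set.range i := by rw [hr]; exact specializes_iff_mem_closure.1 hz
    exact this
  have hin : ∀ b, t ⤳ i b := fun b => by
    rw [specializes_iff_mem_closure, ← hr]
    exact ⟨b, rfl⟩
  obtain ⟨a, rfl⟩ := hmem x htx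
  obtain ⟨η, rfl⟩ := hmem t specializes_rfl
  have hemb := i.isClosedEmbedding.isEmbedding
  have hη : ∀ b, η ⤳ b := fun b => hemb.isInducing.specializes_iff.1 (hin b)
  have hqf : (i ≫ f).QuasiFiniteAt a := quasiFiniteAt_of_isolated (i ≫ f) a
    (fun b hb hba => hemb.injective (hiso _ hb (hin b) (hemb.isInducing.specializes_iff.2 hba)))
    (fun b hb hab => hemb.injective (hclosed _ hb (hemb.isInducing.specializes_iff.2 hab)))
  have : IsLocallyNoetherian Z := LocallyOfFiniteType.isLocallyNoetherian (i ≫ f)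
  obtain ⟨W, hW, haW, hWle⟩ := exists_isAffineOpen_mem_and_subset (X := Z) (x := a)
    (U := (i ≫ f).quasiFiniteLocus) hqf
  have : IsAffine W.toScheme := hW
  have : LocallyQuasiFinite (W.ι ≫ i ≫ f) := by
    rw [← Scheme.Hom.quasiFiniteLocus_eq_top_iff, Scheme.Hom.quasiFiniteLocus_comp, eq_top_iff]
    exact fun w _ => hWle w.2
  have : Nonempty W.toScheme := ⟨⟨a, haW⟩⟩
  have : IsIntegral W.toScheme := isIntegral_of_isOpenImmersion W.ι
  have hηW : η ∈ W := (hη a).mem_open W.2 haW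
  refine ⟨W.toScheme, W.ι ≫ i, inferInstance, inferInstance, inferInstance, ⟨⟨a, haW⟩, rfl⟩, ?_, ?_, ?_, ?_, ?_⟩
  · rintro _ ⟨w, rfl⟩
    exact specializes_iff_mem_closure.1 (hin _)
  · rw [Category.assoc]; infer_instance
  · rw [Category.assoc]; infer_instance
  · infer_instance
  · refine ⟨hdom.mono (Set.singleton_subset_iff.2 ⟨⟨η, hηW⟩, rfl⟩)⟩

theorem primes_stalk {Y : Scheme.{u}} (y : Y)
    (hy : IsRegularLocalRing (Y.presheaf.stalk y) ∧ ringKrullDim (Y.presheaf.stalk y) ≤ 1)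
    (P : Ideal (Y.presheaf.stalk y)) (hP : P.IsPrime) : P = ⊥ ∨ P = IsLocalRing.maximalIdeal _ := by
  have := hy.1
  have := DepthLib.isDomain_of_isRegularLocalRing (Y.presheaf.stalk y)
  have : Ring.KrullDimLE 1 (Y.presheaf.stalk y) := Ring.krullDimLE_iff.2 hy.2
  exact (em (P = ⊥)).imp_right fun h =>
    IsLocalRing.eq_maximalIdeal (Ring.krullDimLE_one_iff_of_noZeroDivisors.mp this P h hP)

theorem exists_cut_point {X Y : Scheme.{u}} [IsLocallyNoetherian Y]
    (hY : ∀ y : Y, IsRegularLocalRing (Y.presheaf.stalk y) ∧ ringKrullDim (Y.presheaf.stalk y) ≤ 1)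
    (f : X ⟶ Y) [LocallyOfFiniteType f] {ξ x : X} (hξx : ξ ⤳ x) (hξ : Dense ({f.base ξ} : Set Y)) :
    ∃ t : X, ξ ⤳ t ∧ t ⤳ x ∧ f.base t = f.base ξ ∧
      ∀ z : X, f.base z = f.base x → t ⤳ z → z ⤳ x → z = x := by
  have : IsLocallyNoetherian X := LocallyOfFiniteType.isLocallyNoetherian f
  have := (hY (f x)).1
  have := DepthLib.isDomain_of_isRegularLocalRing (Y.presheaf.stalk (f x))
  let φ := (f.stalkMap x).hom
  let j := X.fromSpecStalk x
  let k := Y.fromSpecStalk (f x)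
  have hcomm : ∀ Q : ↥(Spec (X.presheaf.stalk x)), f (j Q) = k (PrimeSpectrum.comap φ Q) := fun Q => by
    rw [← Scheme.Hom.comp_apply, ← Scheme.SpecMap_stalkMap_fromSpecStalk, Scheme.Hom.comp_apply]
    rfl
  have hj : ∀ z : X, z ⤳ x → ∃ Q : PrimeSpectrum (X.presheaf.stalk x), j Q = z := fun z hz => by
    have : z ∈ Set.range j := by rw [Scheme.range_fromSpecStalk]; exact hz
    exact this
  have hkinj : Function.Injective k := k.isEmbedding.injective
  obtain ⟨Q₀, hQ₀⟩ := hj ξ hξx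
  have hbot : ∀ Q : PrimeSpectrum (X.presheaf.stalk x), f (j Q) = f ξ ↔ Q.asIdeal.comap φ = ⊥ := by
    have e : f ξ = k (⊥ : PrimeSpectrum (Y.presheaf.stalk (f x))) := by
      obtain ⟨P, hP⟩ : ∃ P, k P = f ξ := ⟨_, (hcomm Q₀).symm.trans (congrArg f hQ₀)⟩
      have hs : P ⤳ (⊥ : PrimeSpectrum (Y.presheaf.stalk (f x))) := by
        refine k.isEmbedding.isInducing.specializes_iff.1 ?_
        rw [hP, specializes_iff_mem_closure]
        exact hξ _
      exact hP.symm.trans (congrArg k ((le_bot_iff (α := PrimeSpectrum (Y.presheaf.stalk (f x)))).1 ((PrimeSpectrum.le_iff_specializes P ⊥).2 hs)))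
    intro Q
    rw [hcomm, e]
    exact hkinj.eq_iff.trans PrimeSpectrum.ext_iff
  obtain ⟨Q, hle, hQ, hQc, hmax⟩ := exists_prime_cut (primes_stalk (f x) (hY _)) φ Q₀.asIdeal
    ((hbot Q₀).1 (congrArg f hQ₀))
  refine ⟨j ⟨Q, hQ⟩, ?_, ?_, (hbot ⟨Q, hQ⟩).2 hQc, fun z hz htz hzx => ?_⟩
  · rw [← hQ₀]
    exact ((PrimeSpectrum.le_iff_specializes Q₀ ⟨Q, hQ⟩).1 hle).map j.continuous
  · have : j ⟨Q, hQ⟩ ∈ Set.range j := ⟨_, rfl⟩
    rw [Scheme.range_fromSpecStalk] at this
    exact this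
  · obtain ⟨Q', rfl⟩ := hj z hzx
    have h1 : Q ≤ Q'.asIdeal :=
      (PrimeSpectrum.le_iff_specializes ⟨Q, hQ⟩ Q').2 (j.isEmbedding.isInducing.specializes_iff.1 htz)
    have h2 : PrimeSpectrum.comap φ Q' = IsLocalRing.closedPoint _ :=
      hkinj ((hcomm Q').symm.trans (hz.trans Scheme.fromSpecStalk_closedPoint.symm))
    have h3 : Q' = IsLocalRing.closedPoint _ :=
      PrimeSpectrum.ext (hmax _ Q'.2 h1 (congrArg PrimeSpectrum.asIdeal h2))
    rw [h3]
    exact Scheme.fromSpecStalk_closedPoint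

theorem tfae {X Y : Scheme.{u}} [IrreducibleSpace Y] [IsLocallyNoetherian Y]
    (hY : ∀ y : Y, IsRegularLocalRing (Y.presheaf.stalk y) ∧ ringKrullDim (Y.presheaf.stalk y) ≤ 1)
    (f : X ⟶ Y) [LocallyOfFiniteType f] (y : Y) :
    (∀ Z ∈ irreducibleComponents (X : Type u), (Z ∩ f.base ⁻¹' {y}).Nonempty → Dense (f.base '' Z)) ↔
      ∀ x : X, f.base x = y → (∀ x' : X, f.base x' = y → x ⤳ x' → x' = x) →
        ∀ Xi ∈ irreducibleComponents (X : Type u), x ∈ Xi →
          ∃ (T : Scheme.{u}) (i : T ⟶ X), IsImmersion i ∧ IrreducibleSpace ↥T ∧ IsReduced T ∧ x ∈ Set.range i.base ∧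
            Set.range i.base ⊆ Xi ∧
            LocallyOfFiniteType (i ≫ f) ∧ LocallyQuasiFinite (i ≫ f) ∧ QuasiCompact (i ≫ f) ∧ IsDominant (i ≫ f) := by
  constructor
  · intro hd x hx hcl Xi hXi hxi
    obtain ⟨ξ, hξ⟩ := QuasiSober.sober hXi.1 (isClosed_of_mem_irreducibleComponents _ hXi)
    have hdense : Dense ({f.base ξ} : Set Y) := by
      have h := hd Xi hXi ⟨x, hxi, hx⟩
      rw [dense_iff_closure_eq] at h ⊢
      rw [← Set.univ_subset_iff, ← h]
      refine closure_minimal ?_ isClosed_closure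
      rintro _ ⟨z, hz, rfl⟩
      exact specializes_iff_mem_closure.1 ((hξ.specializes hz).map f.continuous)
    obtain ⟨t, hξt, htx, hft, hiso⟩ := exists_cut_point hY f (hξ.specializes hxi) hdense
    obtain ⟨T, i, h1, h2, h3, h4, h5, h6⟩ := exists_curve f htx (hft.symm ▸ hdense)
      (fun x' h => hcl x' (h.trans hx)) hiso
    refine ⟨T, i, h1, h2, h3, h4, h5.trans ?_, h6⟩
    exact closure_minimal (Set.singleton_subset_iff.2 ((hξ.def ▸ specializes_iff_mem_closure.1 hξt :)))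
      (isClosed_of_mem_irreducibleComponents _ hXi)
  · intro he Z hZ hne
    have hZc := isClosed_of_mem_irreducibleComponents _ hZ
    obtain ⟨z, hzZ, hz⟩ := hne
    let q : f.fiber y := (f.fiberHomeo y).symm ⟨z, hz⟩
    have hC : IsClosed (f.fiberι y ⁻¹' Z) := hZc.preimage (f.fiberι y).continuous
    obtain ⟨p, hpZ, hp⟩ : ((f.fiberι y ⁻¹' Z) ∩ closedPoints ↥(f.fiber y)).Nonempty :=
      nonempty_inter_closedPoints ⟨q, by simpa [q] using hzZ⟩ hC.isLocallyClosed
    have hfp : f (f.fiberι y p) = y := (f.fiberHomeo y p).2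
    obtain ⟨T, i, -, -, -, -, hsub, -, -, -, hdomi⟩ := he (f.fiberι y p) hfp (fun x' hx' hs => by
      obtain ⟨p', rfl⟩ : ∃ p', f.fiberι y p' = x' := ⟨(f.fiberHomeo y).symm ⟨x', hx'⟩, f.fiberι_fiberHomeo_symm _ _⟩
      have h1 : p ⤳ p' := (f.fiberι y).isEmbedding.isInducing.specializes_iff.1 hs
      rw [specializes_iff_mem_closure, (mem_closedPoints_iff.1 hp).closure_eq, Set.mem_singleton_iff] at h1
      rw [h1]) Z hZ hpZ
    refine hdomi.denseRange.mono ?_
    rintro _ ⟨w, rfl⟩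
    exact ⟨_, hsub ⟨w, rfl⟩, rfl⟩

end Groth.Agent.CurveCut
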