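import Mathlib
import Groth.Prelude.Def_Found
import Groth.Agent.NagataUJ.Main
import Groth.Agent.NagataLib.DimOne

/-!
# Cutting a normal curve through a point of a Nagata ring

`exists_curveRing`: for a maximal ideal `m` of a Nagata ring `A`, a prime `p ≤ m` and `g ∈ m \ p`,
there is a normal domain `C` of finite type over `A` with a closed point `c` over `m`, of dimension
one, such that every other prime of `C` lies over a prime containing `p` and not `g`.
-/

universe u

namespace Groth.Agent.CurveCut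

/-- A largest prime between `p` and `m` avoiding `g`. -/
theorem exists_prime_cut {A : Type u} [CommRing A] [IsNoetherianRing A] {p m : Ideal A}
    [p.IsPrime] (hpm : p ≤ m) {g : A} (hgp : g ∉ p) :
    ∃ q : Ideal A, q.IsPrime ∧ p ≤ q ∧ q ≤ m ∧ g ∉ q ∧
      ∀ Q : Ideal A, Q.IsPrime → q < Q → Q ≤ m → g ∈ Q := by
  obtain ⟨q, ⟨hq, hpq, hqm, hgq⟩, hmax⟩ := set_has_maximal_iff_noetherian.mpr inferInstance
    {q : Ideal A | q.IsPrime ∧ p ≤ q ∧ q ≤ m ∧ g ∉ q} ⟨p, ‹_›, le_rfl, hpm, hgp⟩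
  exact ⟨q, hq, hpq, hqm, hgq, fun Q hQ hlt hQm => by_contra fun hgQ =>
    hmax Q ⟨hQ, hpq.trans hlt.le, hQm, hgQ⟩ hlt⟩

/-- If all nonzero primes below `m` contain a fixed nonzero element, then `m` has height one. -/
theorem height_eq_one {D : Type u} [CommRing D] [IsDomain D] [IsNoetherianRing D] (m : Ideal D)
    [m.IsPrime] {g : D} (hg0 : g ≠ 0) (hgm : g ∈ m)
    (h : ∀ Q : Ideal D, Q.IsPrime → Q ≠ ⊥ → Q ≤ m → g ∈ Q) : m.height = 1 := by
  classical
  have hm0 : m ≠ ⊥ := (Submodule.ne_bot_iff m).mpr ⟨g, hgm, hg0⟩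
  have hpos : ∀ P : Ideal D, P.IsPrime → P ≠ ⊥ → 1 ≤ P.height := fun P hP hP0 =>
    Order.one_le_iff_pos.mpr (pos_iff_ne_zero.mpr fun h0 => hP0 (Ideal.height_eq_zero_iff_eq_bot.mp h0))
  refine le_antisymm ?_ (hpos m ‹_› hm0)
  let I : Ideal D := Ideal.span {g}
  by_cases hmI : m ∈ I.minimalPrimes
  · exact Ideal.height_le_one_of_isPrincipal_of_mem_minimalPrimes I m hmI
  exfalso
  let S := (I.finite_minimalPrimes_of_isNoetherianRing D).toFinset.filter (· ≤ m)
  have hnsub : ¬ ((m : Set D) ⊆ ⋃ P ∈ (↑S : Set (Ideal D)), (P : Set D)) := by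
    intro hsub
    obtain ⟨P, hP, hle⟩ := (Ideal.subset_union_prime (f := fun P => P) m m (fun P hP _ _ =>
      ((Set.Finite.mem_toFinset _).mp (Finset.mem_filter.mp hP).1).1.1)).mp hsub
    obtain ⟨hP1, hP2⟩ := Finset.mem_filter.mp hP
    exact hmI (le_antisymm hP2 hle ▸ (Set.Finite.mem_toFinset _).mp hP1)
  obtain ⟨y, hym, hy⟩ := Set.not_subset.mp hnsub
  obtain ⟨Q, hQ, hQm⟩ := Ideal.exists_minimalPrimes_le
    ((Ideal.span_singleton_le_iff_mem m).mpr hym)
  have hQp : Q.IsPrime := hQ.1.1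
  have hyQ : y ∈ Q := hQ.1.2 (Ideal.mem_span_singleton_self y)
  have hy0 : y ≠ 0 := by
    rintro rfl
    obtain ⟨P, hP, hPm⟩ := Ideal.exists_minimalPrimes_le ((Ideal.span_singleton_le_iff_mem m).mpr hgm)
    exact hy (Set.mem_biUnion (Finset.mem_coe.mpr (Finset.mem_filter.mpr
      ⟨(Set.Finite.mem_toFinset _).mpr hP, hPm⟩)) P.zero_mem)
  have hgQ : g ∈ Q := h Q hQp ((Submodule.ne_bot_iff Q).mpr ⟨y, hyQ, hy0⟩) hQm
  obtain ⟨P, hP, hPQ⟩ := Ideal.exists_minimalPrimes_le ((Ideal.span_singleton_le_iff_mem Q).mpr hgQ)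
  have hPp : P.IsPrime := hP.1.1
  have hP0 : P ≠ ⊥ := (Submodule.ne_bot_iff P).mpr ⟨g, hP.1.2 (Ideal.mem_span_singleton_self g), hg0⟩
  have hQ1 := Ideal.height_le_one_of_isPrincipal_of_mem_minimalPrimes (Ideal.span {y}) Q hQ
  have hne : P ≠ Q := fun e => hy (Set.mem_biUnion (Finset.mem_coe.mpr (Finset.mem_filter.mpr
    ⟨(Set.Finite.mem_toFinset _).mpr hP, e.le.trans hQm⟩)) (e ▸ hyQ))
  have h1 := Ideal.height_add_one_le_of_lt_of_isPrime (lt_of_le_of_ne hPQ hne)
  have h2 := (add_le_add (hpos P hPp hP0) le_rfl).trans (h1.trans hQ1)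
  exact absurd h2 (by decide)

/-- The normal curve on a domain. -/
theorem exists_curveRing_domain {D : Type u} [CommRing D] [IsDomain D] (hD : CAlg.IsNagata D)
    (m : Ideal D) [m.IsMaximal] {g : D} (hg0 : g ≠ 0) (hgm : g ∈ m) (hht : m.height = 1) :
    ∃ (C : Type u) (_ : CommRing C) (_ : IsDomain C) (φ : D →+* C) (c : Ideal C) (_ : c.IsMaximal),
      IsIntegrallyClosed C ∧ φ.FiniteType ∧ Function.Injective φ ∧ c.comap φ = m ∧ c.height = 1 ∧
      ∀ P : Ideal C, P.IsPrime → φ g ∈ P → P = c := by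
  classical
  have := hD.1
  let K := FractionRing D
  let N := integralClosure D K
  have : Module.Finite D N :=
    (NagataLib.isN1_iff K).mp (NagataLib.isN1_of_isN2 (NagataUJ.isN2_of_isNagata hD))
  have hinj : Function.Injective (algebraMap D N) := fun a b h =>
    IsFractionRing.injective D K (congrArg Subtype.val h)
  have : IsNoetherianRing N := IsNoetherianRing.of_finite D N
  have : IsIntegrallyClosed N := integralClosure.isIntegrallyClosedOfFiniteExtension K
  obtain ⟨n, hn, hnm⟩ := Ideal.exists_ideal_over_maximal_of_isIntegral (S := N) m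
    (by rw [(RingHom.injective_iff_ker_eq_bot _).mp hinj]; exact bot_le)
  have hn1 : n.height = 1 := by
    have := NagataLib.ringKrullDim_atPrime_eq_one_of_isIntegral hinj m n hnm
      (Localization.AtPrime m) (Localization.AtPrime n)
      (by rw [IsLocalization.AtPrime.ringKrullDim_eq_height m, hht]; rfl)
    rw [IsLocalization.AtPrime.ringKrullDim_eq_height n] at this
    exact_mod_cast this
  let gN := algebraMap D N g
  have hgN : gN ∈ n := by rw [← hnm] at hgm; exact hgm
  let I : Ideal N := Ideal.span {gN}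
  have hmin : ∀ P : Ideal N, P.IsPrime → gN ∈ P → P ≤ n → P = n := by
    intro P hP hgP hle
    by_contra hne
    have h1 := Ideal.height_add_one_le_of_lt_of_isPrime (lt_of_le_of_ne hle hne)
    have hP0 : P ≠ ⊥ := (Submodule.ne_bot_iff P).mpr
      ⟨gN, hgP, (map_ne_zero_iff _ hinj).mpr hg0⟩
    have h2 : 1 ≤ P.height := Order.one_le_iff_pos.mpr
      (pos_iff_ne_zero.mpr fun h0 => hP0 (Ideal.height_eq_zero_iff_eq_bot.mp h0))
    rw [hn1] at h1
    exact absurd ((add_le_add h2 le_rfl).trans h1) (by decide)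
  let S := (I.finite_minimalPrimes_of_isNoetherianRing N).toFinset.filter (· ≠ n)
  have hh : ∀ P ∈ S, ∃ x ∈ P, x ∉ n := by
    intro P hP
    obtain ⟨hP1, hP2⟩ := Finset.mem_filter.mp hP
    have hP' := (Set.Finite.mem_toFinset _).mp hP1
    refine SetLike.not_le_iff_exists.mp fun hle => hP2 ?_
    exact hmin P hP'.1.1 (hP'.1.2 (Ideal.mem_span_singleton_self gN)) hle
  choose! x hxP hxn using hh
  let h : N := ∏ P ∈ S, x P
  have hhn : h ∉ n := fun hh => by
    obtain ⟨P, hP, hPn⟩ := (Ideal.IsPrime.prod_mem_iff (p := n)).mp hh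
    exact hxn P hP hPn
  have hh0 : h ≠ 0 := fun h0 => hhn (h0 ▸ n.zero_mem)
  have hpow : Submonoid.powers h ≤ nonZeroDivisors N :=
    Submonoid.powers_le.mpr (mem_nonZeroDivisors_of_ne_zero hh0)
  let C := Localization.Away h
  have : IsDomain C := IsLocalization.isDomain_of_le_nonZeroDivisors C hpow
  have hdisj : Disjoint (Submonoid.powers h : Set N) n := Set.disjoint_left.mpr fun y hy hyn => by
    obtain ⟨k, rfl⟩ := hy
    exact hhn (hn.isPrime.mem_of_pow_mem k hyn)
  let c : Ideal C := n.map (algebraMap N C)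
  have hc : c.IsPrime :=
    IsLocalization.isPrime_of_isPrime_disjoint (Submonoid.powers h) C n hn.isPrime hdisj
  have hcn : c.comap (algebraMap N C) = n :=
    IsLocalization.under_map_of_isPrime_disjoint (Submonoid.powers h) C hn.isPrime hdisj
  let φ : D →+* C := (algebraMap N C).comp (algebraMap D N)
  have hgc : φ g ∈ c := Ideal.mem_map_of_mem _ hgN
  have huniq : ∀ P : Ideal C, P.IsPrime → φ g ∈ P → P = c := by
    intro P hP hgP
    let P' := P.comap (algebraMap N C)
    have hP' : P'.IsPrime := hP.comap _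
    obtain ⟨Q, hQ, hQP⟩ := Ideal.exists_minimalPrimes_le
      ((Ideal.span_singleton_le_iff_mem P').mpr (show gN ∈ P' from hgP))
    have hQn : Q = n := by
      by_contra hne
      have hQS : Q ∈ S := Finset.mem_filter.mpr ⟨(Set.Finite.mem_toFinset _).mpr hQ, hne⟩
      have hhQ : h ∈ Q := by
        change (∏ P ∈ S, x P) ∈ Q
        rw [← Finset.mul_prod_erase S x hQS]
        exact Ideal.mul_mem_right _ _ (hxP Q hQS)
      exact hP.ne_top (Ideal.eq_top_of_isUnit_mem _ (show algebraMap N C h ∈ P from hQP hhQ)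
        (IsLocalization.map_units C (⟨h, Submonoid.mem_powers h⟩ : Submonoid.powers h)))
    have hPn : n = P' := hn.eq_of_le hP'.ne_top (hQn ▸ hQP)
    rw [← IsLocalization.map_under (Submonoid.powers h) C P, Ideal.under_def, ← show n = P.comap _ from hPn]
  refine ⟨C, inferInstance, ‹_›, φ, c, ?_, isIntegrallyClosed_of_isLocalization C _ hpow, ?_,
    (IsLocalization.injective C hpow).comp hinj, ?_, ?_, huniq⟩
  · obtain ⟨M, hM, hle⟩ := Ideal.exists_le_maximal c hc.ne_top
    exact huniq M hM.isPrime (hle hgc) ▸ hM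
  · exact (RingHom.finiteType_algebraMap.mpr
      (IsLocalization.finiteType_of_monoid_fg (Submonoid.powers h) C)).comp
      (RingHom.finiteType_algebraMap.mpr inferInstance)
  · rw [← Ideal.comap_comap, hcn, hnm]
  · rw [IsLocalization.height_map_of_disjoint (Submonoid.powers h) n hdisj, hn1]

/-- The normal curve on a Nagata ring. -/
theorem exists_curveRing {A : Type u} [CommRing A] (hA : CAlg.IsNagata A) {p m : Ideal A}
    [p.IsPrime] [m.IsMaximal] (hpm : p ≤ m) {g : A} (hgp : g ∉ p) (hgm : g ∈ m) :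
    ∃ (C : Type u) (_ : CommRing C) (_ : IsDomain C) (φ : A →+* C) (c : Ideal C) (_ : c.IsMaximal),
      IsIntegrallyClosed C ∧ φ.FiniteType ∧ c.comap φ = m ∧ c.height = 1 ∧
      (∀ P : Ideal C, P.IsPrime → P ≠ c → p ≤ P.comap φ ∧ g ∉ P.comap φ) := by
  classical
  have := hA.1
  obtain ⟨q, hq, hpq, hqm, hgq, hmax⟩ := exists_prime_cut hpm hgp
  let D := A ⧸ q
  let π := Ideal.Quotient.mk q
  have hπ : Function.Surjective π := Ideal.Quotient.mk_surjective
  have hker : RingHom.ker π ≤ m := by rw [Ideal.mk_ker]; exact hqm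
  have : (m.map π).IsMaximal := Ideal.IsMaximal.map_of_surjective_of_ker_le hπ hker
  have hcomap : (m.map π).comap π = m := by
    rw [Ideal.comap_map_of_surjective π hπ, ← RingHom.ker_eq_comap_bot, sup_eq_left]
    exact hker
  have hg0 : π g ≠ 0 := fun h => hgq (Ideal.Quotient.eq_zero_iff_mem.mp h)
  have hgm' : π g ∈ m.map π := Ideal.mem_map_of_mem π hgm
  have hht := height_eq_one (m.map π) hg0 hgm' fun Q hQ hQ0 hQm => by
    refine hmax (Q.comap π) (hQ.comap π) (lt_of_le_of_ne (fun x hx => ?_) fun e => hQ0 ?_)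
      ((Ideal.comap_mono hQm).trans hcomap.le)
    · change π x ∈ Q
      rw [Ideal.Quotient.eq_zero_iff_mem.mpr hx]
      exact zero_mem _
    · rw [← Ideal.map_comap_of_surjective π hπ Q, ← e, Ideal.map_quotient_self]
  obtain ⟨C, _, _, φ, c, hc, hint, hft, hinj, hcm, hc1, huniq⟩ :=
    exists_curveRing_domain (NagataUJ.isNagata_of_finite hA) (m.map π) hg0 hgm' hht
  refine ⟨C, inferInstance, inferInstance, φ.comp π, c, hc, hint,
    hft.comp (RingHom.FiniteType.of_surjective π hπ), ?_, hc1, fun P hP hne => ?_⟩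
  · rw [← Ideal.comap_comap, hcm, hcomap]
  · refine ⟨fun x hx => ?_, fun hg => hne (huniq P hP hg)⟩
    change φ (π x) ∈ P
    rw [Ideal.Quotient.eq_zero_iff_mem.mpr (hpq hx), map_zero]
    exact zero_mem _

end Groth.Agent.CurveCut
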