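import Mathlib
import Groth.Agent.CurveCut.Ring

/-!
# Normal curves with a prescribed finite extension of the function field

`exists_curveRing_ext`: over a Nagata domain `D`, a height-one maximal ideal, a finite extension `L`
of the fraction field and finitely many elements of `L`: a normal model `C` of `L` of finite type,
a closed point `c` of height one and `s ∈ C` with `V(s) = {c}` such that the elements lie in `C[1/s]`.
-/

universe u

namespace Groth.Agent.CurveCut

theorem exists_curveRing_ext {D : Type u} [CommRing D] [IsDomain D] (hD : CAlg.IsNagata D)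
    (m : Ideal D) [m.IsMaximal] {g : D} (hg0 : g ≠ 0) (hgm : g ∈ m) (hht : m.height = 1)
    (L : Type u) [Field L] [Algebra D L] [Algebra (FractionRing D) L]
    [IsScalarTower D (FractionRing D) L] [FiniteDimensional (FractionRing D) L] (Λ : Finset L) :
    ∃ (C : Type u) (_ : CommRing C) (_ : IsDomain C) (_ : Algebra D C) (j : C →ₐ[D] L)
      (c : Ideal C) (_ : c.IsMaximal) (s : C), IsFractionRing C (FractionRing C) ∧
      Function.Injective j ∧ IsIntegrallyClosed C ∧ Algebra.FiniteType D C ∧
      c.comap (algebraMap D C) = m ∧ c.height = 1 ∧ s ∈ c ∧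
      (∀ P : Ideal C, P.IsPrime → s ∈ P → P = c) ∧ ∀ l ∈ Λ, ∃ b : C, j s * l = j b := by
  classical
  have := hD.1
  let K := FractionRing D
  let N := integralClosure D L
  have : Module.Finite D N :=
    NagataLib.finite_integralClosure_of_isN2 (NagataUJ.isN2_of_isNagata hD) K L
  have hinjL : Function.Injective (algebraMap D L) := by
    rw [IsScalarTower.algebraMap_eq D K L]
    exact (algebraMap K L).injective.comp (IsFractionRing.injective D K)
  have hinj : Function.Injective (algebraMap D N) := fun a b h =>
    hinjL (congrArg Subtype.val h)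
  have : IsNoetherianRing N := IsNoetherianRing.of_finite D N
  have : IsIntegrallyClosed N := integralClosure.isIntegrallyClosedOfFiniteExtension K
  have : IsFractionRing N L := IsIntegralClosure.isFractionRing_of_finite_extension D K L N
  obtain ⟨n, hn, hnm⟩ := Ideal.exists_ideal_over_maximal_of_isIntegral (S := N) m
    (by rw [(RingHom.injective_iff_ker_eq_bot _).mp hinj]; exact bot_le)
  have hn1 : n.height = 1 := by
    have := NagataLib.ringKrullDim_atPrime_eq_one_of_isIntegral hinj m n hnm
      (Localization.AtPrime m) (Localization.AtPrime n)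
      (by rw [IsLocalization.AtPrime.ringKrullDim_eq_height m, hht]; rfl)
    rw [IsLocalization.AtPrime.ringKrullDim_eq_height n] at this
    exact_mod_cast this
  obtain ⟨a, ha⟩ := IsLocalization.exist_integer_multiples_of_finset (nonZeroDivisors N) Λ
  let sN : N := algebraMap D N g * a
  have hsn : sN ∈ n := Ideal.mul_mem_right _ _ (by rw [← hnm] at hgm; exact hgm)
  have hs0 : sN ≠ 0 := mul_ne_zero ((map_ne_zero_iff _ hinj).mpr hg0) (nonZeroDivisors.coe_ne_zero a)
  let I : Ideal N := Ideal.span {sN}
  have hmin : ∀ P : Ideal N, P.IsPrime → sN ∈ P → P ≤ n → P = n := by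
    intro P hP hsP hle
    by_contra hne
    have h1 := Ideal.height_add_one_le_of_lt_of_isPrime (lt_of_le_of_ne hle hne)
    have hP0 : P ≠ ⊥ := (Submodule.ne_bot_iff P).mpr ⟨sN, hsP, hs0⟩
    have h2 : 1 ≤ P.height := Order.one_le_iff_pos.mpr
      (pos_iff_ne_zero.mpr fun h0 => hP0 (Ideal.height_eq_zero_iff_eq_bot.mp h0))
    rw [hn1] at h1
    exact absurd ((add_le_add h2 le_rfl).trans h1) (by decide)
  let S := (I.finite_minimalPrimes_of_isNoetherianRing N).toFinset.filter (· ≠ n)
  have hh : ∀ P ∈ S, ∃ x ∈ P, x ∉ n := by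
    intro P hP
    obtain ⟨hP1, hP2⟩ := Finset.mem_filter.mp hP
    have hP' := (Set.Finite.mem_toFinset _).mp hP1
    refine SetLike.not_le_iff_exists.mp fun hle => hP2 ?_
    exact hmin P hP'.1.1 (hP'.1.2 (Ideal.mem_span_singleton_self sN)) hle
  choose! x hxP hxn using hh
  let h : N := ∏ P ∈ S, x P
  have hhn : h ∉ n := fun hh => by
    obtain ⟨P, hP, hPn⟩ := (Ideal.IsPrime.prod_mem_iff (p := n)).mp hh
    exact hxn P hP hPn
  have hh0 : h ≠ 0 := fun h0 => hhn (h0 ▸ n.zero_mem)
  have hpow : Submonoid.powers h ≤ nonZeroDivisors N :=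
    Submonoid.powers_le.mpr (mem_nonZeroDivisors_of_ne_zero hh0)
  let C := Localization.Away h
  have : IsDomain C := IsLocalization.isDomain_of_le_nonZeroDivisors C hpow
  let : Algebra C L := IsLocalization.localizationAlgebraOfSubmonoidLe C L (Submonoid.powers h)
    (nonZeroDivisors N) hpow
  have : IsScalarTower N C L := IsLocalization.localization_isScalarTower_of_submonoid_le C L
    (Submonoid.powers h) (nonZeroDivisors N) hpow
  have : IsFractionRing C L :=
    IsFractionRing.isFractionRing_of_isDomain_of_isLocalization (Submonoid.powers h) C L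
  have : IsScalarTower D N C := inferInstance
  have hDCL : ∀ d : D, algebraMap C L (algebraMap D C d) = algebraMap D L d := fun d => by
    rw [IsScalarTower.algebraMap_apply D N C, ← IsScalarTower.algebraMap_apply N C L]
    rfl
  let j : C →ₐ[D] L := { algebraMap C L with commutes' := hDCL }
  have hdisj : Disjoint (Submonoid.powers h : Set N) n := Set.disjoint_left.mpr fun y hy hyn => by
    obtain ⟨k, rfl⟩ := hy
    exact hhn (hn.isPrime.mem_of_pow_mem k hyn)
  let c : Ideal C := n.map (algebraMap N C)
  have hc : c.IsPrime :=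
    IsLocalization.isPrime_of_isPrime_disjoint (Submonoid.powers h) C n hn.isPrime hdisj
  have hcn : c.comap (algebraMap N C) = n :=
    IsLocalization.under_map_of_isPrime_disjoint (Submonoid.powers h) C hn.isPrime hdisj
  let s : C := algebraMap N C sN
  have hsc : s ∈ c := Ideal.mem_map_of_mem _ hsn
  have huniq : ∀ P : Ideal C, P.IsPrime → s ∈ P → P = c := by
    intro P hP hsP
    let P' := P.comap (algebraMap N C)
    have hP' : P'.IsPrime := hP.comap _
    obtain ⟨Q, hQ, hQP⟩ := Ideal.exists_minimalPrimes_le
      ((Ideal.span_singleton_le_iff_mem P').mpr (show sN ∈ P' from hsP))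
    have hQn : Q = n := by
      by_contra hne
      have hQS : Q ∈ S := Finset.mem_filter.mpr ⟨(Set.Finite.mem_toFinset _).mpr hQ, hne⟩
      have hhQ : h ∈ Q := by
        change (∏ P ∈ S, x P) ∈ Q
        rw [← Finset.mul_prod_erase S x hQS]
        exact Ideal.mul_mem_right _ _ (hxP Q hQS)
      exact hP.ne_top (Ideal.eq_top_of_isUnit_mem _ (show algebraMap N C h ∈ P from hQP hhQ)
        (IsLocalization.map_units C (⟨h, Submonoid.mem_powers h⟩ : Submonoid.powers h)))
    have hPn : n = P' := hn.eq_of_le hP'.ne_top (hQn ▸ hQP)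
    rw [← IsLocalization.map_under (Submonoid.powers h) C P, Ideal.under_def,
      ← show n = P.comap _ from hPn]
  have hmax : c.IsMaximal := by
    obtain ⟨M, hM, hle⟩ := Ideal.exists_le_maximal c hc.ne_top
    exact huniq M hM.isPrime (hle hsc) ▸ hM
  refine ⟨C, inferInstance, ‹_›, inferInstance, j, c, hmax, s, inferInstance,
    IsFractionRing.injective C L, isIntegrallyClosed_of_isLocalization C _ hpow, ?_, ?_, ?_, hsc,
    huniq, fun l hl => ?_⟩
  · have : Algebra.FiniteType N C := IsLocalization.finiteType_of_monoid_fg (Submonoid.powers h) C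
    exact Algebra.FiniteType.trans (S := N) inferInstance this
  · rw [IsScalarTower.algebraMap_eq D N C]
    rw [← Ideal.comap_comap, hcn, hnm]
  · rw [IsLocalization.height_map_of_disjoint (Submonoid.powers h) n hdisj, hn1]
  · obtain ⟨b, hb⟩ := ha l hl
    refine ⟨algebraMap N C (algebraMap D N g * b), ?_⟩
    change algebraMap C L (algebraMap N C sN) * l = algebraMap C L _
    rw [← IsScalarTower.algebraMap_apply, ← IsScalarTower.algebraMap_apply, map_mul, map_mul, hb,
      Algebra.smul_def, mul_assoc]

end Groth.Agent.CurveCut
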