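import Mathlib
import Groth.Agent.CurveCut.Ring
import Groth.Agent.NagataUJ.Scheme

/-!
# Normal curves testing closedness of locally closed subsets of Nagata schemes
-/

universe u

open CategoryTheory AlgebraicGeometry TopologicalSpace

namespace Groth.Agent.CurveCut

/-- A locally closed non-closed subset of a Noetherian spectrum, seen from a maximal ideal. -/
theorem exists_prime_basicOpen {A : Type u} [CommRing A] [IsNoetherianRing A]
    {E : Set (PrimeSpectrum A)} (hE : IsLocallyClosed E) {y : PrimeSpectrum A}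
    (hy : y ∈ closure E) (hyE : y ∉ E) :
    ∃ (m : PrimeSpectrum A), m.asIdeal.IsMaximal ∧ m ∉ E ∧ ∃ (p : PrimeSpectrum A) (g : A),
      p.asIdeal ≤ m.asIdeal ∧ g ∉ p.asIdeal ∧ g ∈ m.asIdeal ∧
      ∀ q : PrimeSpectrum A, p.asIdeal ≤ q.asIdeal → g ∉ q.asIdeal → q ∈ E := by
  classical
  obtain ⟨O, Z, hO, hZ, rfl⟩ := hE
  have hcl : ∀ q : PrimeSpectrum A, q ∈ closure (O ∩ Z) → q ∈ O → q ∈ O ∩ Z := fun q hq hqO =>
    ⟨hqO, closure_minimal Set.inter_subset_right hZ hq⟩
  have hyO : y ∉ O := fun h => hyE (hcl y hy h)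
  obtain ⟨M, hM, hyM⟩ := Ideal.exists_le_maximal _ y.2.ne_top
  let m : PrimeSpectrum A := ⟨M, hM.isPrime⟩
  have hspec : y ⤳ m := (PrimeSpectrum.le_iff_specializes y m).mp hyM
  have hm : m ∈ closure (O ∩ Z) := hspec.mem_closed isClosed_closure hy
  have hmO : m ∉ O := fun h => hyO (hspec.mem_open hO h)
  refine ⟨m, hM, fun h => hmO h.1, ?_⟩
  let I := PrimeSpectrum.vanishingIdeal (O ∩ Z)
  have hcle : closure (O ∩ Z) = PrimeSpectrum.zeroLocus (I : Set A) :=
    (PrimeSpectrum.zeroLocus_vanishingIdeal_eq_closure _).symm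
  have hIm : I ≤ M := by rw [hcle] at hm; exact hm
  obtain ⟨P, hP, hPM⟩ := Ideal.exists_minimalPrimes_le hIm
  let p : PrimeSpectrum A := ⟨P, hP.1.1⟩
  have hp : p ∈ closure (O ∩ Z) := by rw [hcle]; exact hP.1.2
  have hpO : p ∈ O := by
    by_contra hpO
    let S := (I.finite_minimalPrimes_of_isNoetherianRing A).toFinset.erase P
    have hsub : O ∩ Z ⊆ PrimeSpectrum.zeroLocus ((∏ Q ∈ S, Q : Ideal A) : Set A) := by
      intro q hq
      have hIq : I ≤ q.asIdeal := by
        have := subset_closure hq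
        rwa [hcle] at this
      obtain ⟨Q, hQ, hQq⟩ := Ideal.exists_minimalPrimes_le hIq
      have hQS : Q ∈ S := by
        refine Finset.mem_erase.mpr ⟨fun e => hpO ?_, (Set.Finite.mem_toFinset _).mpr hQ⟩
        subst e
        exact ((PrimeSpectrum.le_iff_specializes p q).mp hQq).mem_open hO hq.1
      exact (Ideal.prod_le_inf.trans (Finset.inf_le hQS)).trans hQq
    have h := closure_minimal hsub (PrimeSpectrum.isClosed_zeroLocus _) hp
    obtain ⟨Q, hQ, hQP⟩ := (Ideal.IsPrime.prod_le hP.1.1).mp h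
    obtain ⟨hne, hQ'⟩ := Finset.mem_erase.mp hQ
    have hQm := (Set.Finite.mem_toFinset _).mp hQ'
    exact hne (le_antisymm hQP (hP.2 hQm.1 hQP))
  obtain ⟨_, ⟨g, rfl⟩, hgp, hgO⟩ :=
    PrimeSpectrum.isTopologicalBasis_basic_opens.exists_subset_of_mem_open hpO hO
  refine ⟨p, g, hPM, hgp, not_not.mp fun h => hmO (hgO (a := m) h), fun q hpq hgq =>
    hcl q ?_ (hgO hgq)⟩
  exact ((PrimeSpectrum.le_iff_specializes p q).mp hpq).mem_closed isClosed_closure hp

/-- The stalks of an affine scheme. -/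
noncomputable def specStalkEquiv (R : Type u) [CommRing R] (p : PrimeSpectrum R) :
    Localization.AtPrime p.asIdeal ≃+* (Spec (CommRingCat.of R)).presheaf.stalk p :=
  (IsLocalization.algEquiv p.asIdeal.primeCompl (Localization.AtPrime p.asIdeal)
    ((Spec.structureSheaf R).presheaf.stalk p)).toRingEquiv

/-- A normal curve meeting a given non-closed locally closed subset away from one closed point. -/
theorem exists_curve {S P : Scheme.{u}} (hS : ∀ W : S.Opens, IsAffineOpen W → CAlg.IsNagata Γ(S, W))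
    (π : P ⟶ S) [LocallyOfFiniteType π] (E : Set P) (hE : IsLocallyClosed E) (hEc : ¬ IsClosed E) :
    ∃ (C : CommRingCat.{u}) (_ : IsDomain C) (γ : Spec C ⟶ P) (c : Spec C),
      LocallyOfFiniteType (γ ≫ π) ∧ QuasiCompact (γ ≫ π) ∧
      (∀ x : Spec C, IsIntegrallyClosed ((Spec C).presheaf.stalk x)) ∧
      IsClosed ({c} : Set (Spec C)) ∧ ringKrullDim ((Spec C).presheaf.stalk c) = 1 ∧
      γ.base c ∉ E ∧ ∀ x, x ≠ c → γ.base x ∈ E := by
  obtain ⟨y, hy, hyE⟩ : ∃ y, y ∈ closure E ∧ y ∉ E := Set.not_subset.mp fun h => hEc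
    (closure_eq_iff_isClosed.mp (Set.Subset.antisymm h subset_closure))
  obtain ⟨V, hV, hyV, -⟩ := P.isBasis_affineOpens.exists_subset_of_mem_open (Set.mem_univ y) isOpen_univ
  obtain ⟨V, hV, rfl⟩ := hV
  let A := Γ(P, V)
  have hA : CAlg.IsNagata A := NagataUJ.isNagata_of_lft π hS V hV
  have := hA.1
  let j := hV.fromSpec
  have : IsOpenImmersion j := hV.isOpenImmersion_fromSpec
  let E' : Set (PrimeSpectrum A) := j.base ⁻¹' E
  have hyr : y ∈ Set.range j.base := by rw [hV.range_fromSpec]; exact hyV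
  obtain ⟨y', rfl⟩ := hyr
  have hy' : y' ∈ closure E' := by
    change y' ∈ closure (j.base ⁻¹' E)
    rw [← j.isOpenEmbedding.isOpenMap.preimage_closure_eq_closure_preimage j.isOpenEmbedding.continuous]
    exact hy
  obtain ⟨m, hm, hmE, p, g, hpm, hgp, hgm, hq⟩ :=
    exists_prime_basicOpen (hE.preimage j.isOpenEmbedding.continuous) hy' hyE
  obtain ⟨C, _, _, φ, c, hc, hint, hft, hcm, hc1, hother⟩ := exists_curveRing hA hpm hgp hgm
  have : IsNoetherianRing C :=
    let := φ.toAlgebra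
    have : Algebra.FiniteType A C := hft
    Algebra.FiniteType.isNoetherianRing A C
  have : LocallyOfFiniteType (Spec.map (CommRingCat.ofHom φ)) :=
    (HasRingHomProperty.Spec_iff (P := @LocallyOfFiniteType)).mpr hft
  let γ := Spec.map (CommRingCat.ofHom φ) ≫ j
  let c₀ : Spec (CommRingCat.of C) := ⟨c, hc.isPrime⟩
  have : NoetherianSpace (Spec (CommRingCat.of C)) := inferInstanceAs (NoetherianSpace (PrimeSpectrum C))
  have : LocallyOfFiniteType γ := inferInstance
  refine ⟨CommRingCat.of C, ‹_›, γ, c₀, inferInstance, inferInstance, fun x => ?_,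
    (PrimeSpectrum.isClosed_singleton_iff_isMaximal c₀).mpr hc, ?_, ?_, fun x hx => ?_⟩
  · let q : PrimeSpectrum C := x
    have : IsIntegrallyClosed (Localization.AtPrime q.asIdeal) :=
      isIntegrallyClosed_of_isLocalization _ q.asIdeal.primeCompl
        q.asIdeal.primeCompl_le_nonZeroDivisors
    exact IsIntegrallyClosed.of_equiv (specStalkEquiv C q)
  · have hd : ringKrullDim (Localization.AtPrime c) = 1 := by
      rw [IsLocalization.AtPrime.ringKrullDim_eq_height c (Localization.AtPrime c), hc1]; rfl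
    exact (ringKrullDim_eq_of_ringEquiv
      (specStalkEquiv C (⟨c, hc.isPrime⟩ : PrimeSpectrum C)).symm).trans hd
  · have : (Spec.map (CommRingCat.ofHom φ)).base c₀ = m := PrimeSpectrum.ext hcm
    change j.base ((Spec.map (CommRingCat.ofHom φ)).base c₀) ∉ E
    rw [this]
    exact hmE
  · obtain ⟨h1, h2⟩ := hother x.asIdeal x.2 fun e => hx (PrimeSpectrum.ext e)
    exact hq ((Spec.map (CommRingCat.ofHom φ)).base x) h1 h2

end Groth.Agent.CurveCut
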