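import Mathlib
import Groth.Agent.CurveCut.Ext
import Groth.Agent.CurveCut.Scheme
import Groth.Agent.UnivClosed.Dvr

/-!
# Normal curves detecting non-closed images

`exists_curve_image`: if the image of a closed set `Z` under a quasi-compact morphism of finite type
`g'` to a scheme of finite type over a Nagata scheme is not closed, a normal curve `C` with a closed
point `c` detects it: `C ∖ {c}` lifts into `Z`, and `c` maps outside the image.
-/

universe u

open CategoryTheory AlgebraicGeometry TopologicalSpace Topology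

namespace Groth.Agent.CurveCut

/-- Normalising a point of a non-closed constructible subset of a Noetherian spectrum. -/
theorem exists_closure_point {A : Type u} [CommRing A] [IsNoetherianRing A]
    {E : Set (PrimeSpectrum A)} (hE : IsConstructible E) {y : PrimeSpectrum A}
    (hy : y ∈ closure E) (hyE : y ∉ E) :
    ∃ (f : A) (m : PrimeSpectrum (Localization.Away f)), m.asIdeal.IsMaximal ∧
      PrimeSpectrum.comap (algebraMap A (Localization.Away f)) m ∈ closure E ∧
      PrimeSpectrum.comap (algebraMap A (Localization.Away f)) m ∉ E := by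
  obtain ⟨D, hD⟩ := PrimeSpectrum.exists_constructibleSetData_iff.mpr hE.compl
  have hyD : y ∈ D.toSet := hD.ge hyE
  simp only [PrimeSpectrum.ConstructibleSetData.toSet, Set.mem_iUnion] at hyD
  obtain ⟨B, hB, hyV, hyf⟩ := hyD
  let A' := Localization.Away B.f
  have hyf' : B.f ∉ y.asIdeal := fun h => hyf (by
    rw [PrimeSpectrum.mem_zeroLocus, Set.singleton_subset_iff]; exact h)
  obtain ⟨y', hy'⟩ : y ∈ Set.range (PrimeSpectrum.comap (algebraMap A A')) := by
    rw [PrimeSpectrum.localization_away_comap_range A' B.f]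
    exact hyf'
  obtain ⟨M, hM, hle⟩ := Ideal.exists_le_maximal _ y'.2.ne_top
  let m : PrimeSpectrum A' := ⟨M, hM.isPrime⟩
  have hsp : y ⤳ PrimeSpectrum.comap (algebraMap A A') m := by
    rw [← PrimeSpectrum.le_iff_specializes, ← hy']
    exact Ideal.comap_mono hle
  refine ⟨B.f, m, hM, hsp.mem_closed isClosed_closure hy, fun hmE => ?_⟩
  have hmB : PrimeSpectrum.comap (algebraMap A A') m ∈ B.toSet := by
    refine ⟨hsp.mem_closed (PrimeSpectrum.isClosed_zeroLocus _) hyV, fun h => ?_⟩
    rw [PrimeSpectrum.mem_zeroLocus, Set.singleton_subset_iff] at h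
    exact hM.isPrime.ne_top (Ideal.eq_top_of_isUnit_mem _ h
      (IsLocalization.map_units A' (⟨B.f, Submonoid.mem_powers _⟩ : Submonoid.powers B.f)))
  have : PrimeSpectrum.comap (algebraMap A A') m ∈ Eᶜ := hD.le (by
    simp only [PrimeSpectrum.ConstructibleSetData.toSet, Set.mem_iUnion]
    exact ⟨B, hB, hmB⟩)
  exact this hmE

/-- A maximal point in the closure of a constructible set, and a dense piece below it. -/
theorem exists_prime_constructible {A : Type u} [CommRing A]
    {E : Set (PrimeSpectrum A)} (hE : IsConstructible E) {m : PrimeSpectrum A}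
    (hm : m ∈ closure E) (hmE : m ∉ E) :
    ∃ (p : PrimeSpectrum A) (g : A), p.asIdeal ≤ m.asIdeal ∧ g ∉ p.asIdeal ∧ g ∈ m.asIdeal ∧
      ∀ q : PrimeSpectrum A, p.asIdeal ≤ q.asIdeal → g ∉ q.asIdeal → q ∈ E := by
  obtain ⟨S, _, φ, hφ⟩ := PrimeSpectrum.exists_range_eq_of_isConstructible hE
  have hker : RingHom.ker φ ≤ m.asIdeal := by
    rw [← hφ, PrimeSpectrum.closure_range_comap] at hm
    exact hm
  obtain ⟨P, hP, hPm⟩ := Ideal.exists_minimalPrimes_le hker
  obtain ⟨P', hP', -, hPP'⟩ := Ideal.exists_comap_eq_of_mem_minimalPrimes φ (I := ⊥) P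
    (by rwa [← RingHom.ker_eq_comap_bot])
  let p : PrimeSpectrum A := ⟨P, hP.1.1⟩
  have hpE : p ∈ E := hφ ▸ ⟨⟨P', hP'⟩, PrimeSpectrum.ext hPP'⟩
  have hne : ¬ m.asIdeal ≤ P := fun h => hmE (by
    rwa [show m = p from PrimeSpectrum.ext (le_antisymm h hPm)])
  obtain ⟨g₁, hg₁m, hg₁p⟩ := SetLike.not_le_iff_exists.mp hne
  obtain ⟨D, hD⟩ := PrimeSpectrum.exists_constructibleSetData_iff.mpr hE
  have hpD : p ∈ D.toSet := hD.ge hpE
  simp only [PrimeSpectrum.ConstructibleSetData.toSet, Set.mem_iUnion] at hpD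
  obtain ⟨B, hB, hpV, hpf⟩ := hpD
  rw [PrimeSpectrum.mem_zeroLocus, Set.singleton_subset_iff] at hpf
  refine ⟨p, B.f * g₁, hPm, fun h => (hP.1.1.mem_or_mem h).elim hpf hg₁p,
    Ideal.mul_mem_left _ _ hg₁m, fun q hpq hgq => hD.le ?_⟩
  simp only [PrimeSpectrum.ConstructibleSetData.toSet, Set.mem_iUnion]
  refine ⟨B, hB, Set.Subset.trans hpV hpq, ?_⟩
  rw [PrimeSpectrum.mem_zeroLocus, Set.singleton_subset_iff]
  exact fun h => hgq (Ideal.mul_mem_right _ _ h)

/-- A finite residue extension in a nonempty fibre. -/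
theorem exists_point_finite {D B : Type u} [CommRing D] [IsDomain D] [CommRing B] [Algebra D B]
    [Algebra.FiniteType D B] (P : Ideal B) [P.IsPrime] (hP : P.comap (algebraMap D B) = ⊥) :
    ∃ (L : Type u) (_ : Field L) (_ : Algebra D L) (_ : Algebra (FractionRing D) L)
      (_ : IsScalarTower D (FractionRing D) L) (_ : FiniteDimensional (FractionRing D) L)
      (_ : B →ₐ[D] L), True := by
  let K := FractionRing D
  let S := Algebra.algebraMapSubmonoid B (nonZeroDivisors D)
  let R := Localization S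
  let : Algebra K R := localizationAlgebra (nonZeroDivisors D) B
  have : IsScalarTower D K R := isScalarTower_localizationAlgebra (nonZeroDivisors D) B
  have hdisj : Disjoint (S : Set B) P := Set.disjoint_left.mpr fun x hx hxP => by
    obtain ⟨d, hd, rfl⟩ := hx
    have : d ∈ P.comap (algebraMap D B) := hxP
    rw [hP, Ideal.mem_bot] at this
    exact nonZeroDivisors.coe_ne_zero ⟨d, hd⟩ this
  have hprime := IsLocalization.isPrime_of_isPrime_disjoint S R P ‹_› hdisj
  obtain ⟨M, hM, -⟩ := Ideal.exists_le_maximal _ hprime.ne_top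
  let := Ideal.Quotient.field M
  have : Algebra.FiniteType K R := by
    have hfin : Algebra.FiniteType D B := ‹_›
    obtain ⟨G, hG⟩ := hfin.1
    classical
    refine ⟨⟨G.image (algebraMap B R), eq_top_iff.mpr fun z _ => ?_⟩⟩
    obtain ⟨⟨b, ⟨_, d, hd, rfl⟩⟩, hz⟩ := IsLocalization.surj S z
    obtain ⟨v, hv⟩ := IsLocalization.map_units K (⟨d, hd⟩ : nonZeroDivisors D)
    have e : z = algebraMap K R ↑v⁻¹ * algebraMap B R b := by
      rw [← show z * algebraMap B R (algebraMap D B d) = algebraMap B R b from hz,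
        ← IsScalarTower.algebraMap_apply, IsScalarTower.algebraMap_apply D K R,
        show algebraMap D K d = v from hv.symm, mul_left_comm, ← map_mul, Units.inv_mul, map_one,
        mul_one]
    rw [e]
    refine mul_mem (Subalgebra.algebraMap_mem _ _) ?_
    have hb : b ∈ Algebra.adjoin D (G : Set B) := hG ▸ Algebra.mem_top
    clear e hz
    induction hb using Algebra.adjoin_induction with
    | mem y hy => exact Algebra.subset_adjoin (Finset.mem_coe.mpr (Finset.mem_image_of_mem _ hy))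
    | algebraMap r =>
      rw [← IsScalarTower.algebraMap_apply, IsScalarTower.algebraMap_apply D K R]
      exact Subalgebra.algebraMap_mem _ _
    | add a c _ _ ha hc => rw [map_add]; exact add_mem ha hc
    | mul a c _ _ ha hc => rw [map_mul]; exact mul_mem ha hc
  have : Algebra.FiniteType K (R ⧸ M) :=
    Algebra.FiniteType.of_surjective (Ideal.Quotient.mkₐ K M) Ideal.Quotient.mk_surjective
  have : Module.Finite K (R ⧸ M) := finite_of_finite_type_of_isJacobsonRing K (R ⧸ M)
  exact ⟨R ⧸ M, inferInstance, inferInstance, inferInstance, inferInstance, this,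
    (Ideal.Quotient.mkₐ D M).comp (IsScalarTower.toAlgHom D B R), trivial⟩

/-- The affine curve lifting into a fibre over a prime cut. -/
theorem exists_curve_ring_lift {A B : Type u} [CommRing A] [CommRing B] [Algebra A B]
    [Algebra.FiniteType A B] (hA : CAlg.IsNagata A) (J : Ideal B) (q m : Ideal A) [q.IsPrime]
    [m.IsMaximal] (hqm : q ≤ m) {g : A} (hgq : g ∉ q) (hgm : g ∈ m)
    (hmax : ∀ Q : Ideal A, Q.IsPrime → q < Q → Q ≤ m → g ∈ Q)
    (P : Ideal B) [P.IsPrime] (hJP : J ≤ P) (hP : P.comap (algebraMap A B) = q) :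
    ∃ (C : Type u) (_ : CommRing C) (_ : IsDomain C) (φ : A →+* C) (c : Ideal C) (_ : c.IsMaximal)
      (s : C) (δ : B →+* Localization.Away s),
      IsIntegrallyClosed C ∧ φ.FiniteType ∧ c.comap φ = m ∧ c.height = 1 ∧ s ∈ c ∧
      (∀ Q : Ideal C, Q.IsPrime → s ∈ Q → Q = c) ∧ (∀ b ∈ J, δ b = 0) ∧
      δ.comp (algebraMap A B) = (algebraMap C (Localization.Away s)).comp φ := by
  classical
  have := hA.1
  let D := A ⧸ q
  let π := Ideal.Quotient.mk q
  have hπ : Function.Surjective π := Ideal.Quotient.mk_surjective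
  have hkerm : RingHom.ker π ≤ m := by rw [Ideal.mk_ker]; exact hqm
  have : (m.map π).IsMaximal := Ideal.IsMaximal.map_of_surjective_of_ker_le hπ hkerm
  have hcomap : (m.map π).comap π = m := by
    rw [Ideal.comap_map_of_surjective π hπ, ← RingHom.ker_eq_comap_bot, sup_eq_left]
    exact hkerm
  have hg0 : π g ≠ 0 := fun h => hgq (Ideal.Quotient.eq_zero_iff_mem.mp h)
  have hht := height_eq_one (m.map π) hg0 (Ideal.mem_map_of_mem π hgm) fun Q hQ hQ0 hQm => by
    refine hmax (Q.comap π) (hQ.comap π) (lt_of_le_of_ne (fun x hx => ?_) fun e => hQ0 ?_)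
      ((Ideal.comap_mono hQm).trans hcomap.le)
    · change π x ∈ Q
      rw [Ideal.Quotient.eq_zero_iff_mem.mpr hx]
      exact zero_mem _
    · rw [← Ideal.map_comap_of_surjective π hπ Q, ← e, Ideal.map_quotient_self]
  let I : Ideal B := J ⊔ q.map (algebraMap A B)
  let B₁ := B ⧸ I
  have hIP : I ≤ P := sup_le hJP (Ideal.map_le_iff_le_comap.mpr hP.ge)
  let : Algebra D B₁ := (Ideal.quotientMap I (algebraMap A B)
    (Ideal.map_le_iff_le_comap.mp le_sup_right)).toAlgebra
  have : IsScalarTower A D B₁ := .of_algebraMap_eq fun _ => rfl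
  have : Algebra.FiniteType A B₁ :=
    Algebra.FiniteType.of_surjective (Ideal.Quotient.mkₐ A I) Ideal.Quotient.mk_surjective
  have : Algebra.FiniteType D B₁ := Algebra.FiniteType.of_restrictScalars_finiteType A _ _
  have hkI : RingHom.ker (Ideal.Quotient.mk I) ≤ P := by rw [Ideal.mk_ker]; exact hIP
  have : (P.map (Ideal.Quotient.mk I)).IsPrime :=
    Ideal.map_isPrime_of_surjective Ideal.Quotient.mk_surjective hkI
  have hP₁ : (P.map (Ideal.Quotient.mk I)).comap (algebraMap D B₁) = ⊥ := by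
    refine (Submodule.eq_bot_iff _).mpr fun x hx => ?_
    obtain ⟨a, rfl⟩ := hπ x
    refine Ideal.Quotient.eq_zero_iff_mem.mpr (?_ : a ∈ q)
    rw [← hP, Ideal.mem_comap]
    obtain ⟨b, hb, hbe⟩ := (Ideal.mem_map_iff_of_surjective _ Ideal.Quotient.mk_surjective).mp hx
    rw [← sub_sub_cancel b (algebraMap A B a)]
    exact sub_mem hb (hIP (Ideal.Quotient.eq.mp hbe))
  obtain ⟨L, _, _, _, _, _, β₁, -⟩ := exists_point_finite (P.map (Ideal.Quotient.mk I)) hP₁
  let β : B →+* L := β₁.toRingHom.comp (Ideal.Quotient.mk I)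
  have hβA : ∀ a : A, β (algebraMap A B a) = algebraMap D L (π a) := fun a => β₁.commutes (π a)
  obtain ⟨G, hG⟩ := ‹Algebra.FiniteType A B›.1
  obtain ⟨C, _, _, _, j, c, hc, s, -, hj, hint, hft, hcm, hc1, hsc, huniq, hΛ⟩ :=
    exists_curveRing_ext (NagataUJ.isNagata_of_finite hA) (m.map π) hg0
      (Ideal.mem_map_of_mem π hgm) hht L (G.image β)
  have hs0 : s ≠ 0 := fun h => by
    have := huniq ⊥ Ideal.isPrime_bot (by rw [h]; exact zero_mem _)
    rw [← this, Ideal.height_bot] at hc1
    exact zero_ne_one hc1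
  let Cs := Localization.Away s
  have hjs : ∀ y : Submonoid.powers s, IsUnit (j.toRingHom y) := fun ⟨_, k, hk⟩ => by
    subst hk
    exact ((map_ne_zero_iff j hj).mpr (pow_ne_zero k hs0)).isUnit
  let js : Cs →+* L := IsLocalization.lift hjs
  have hjsinj : Function.Injective js := by
    rw [injective_iff_map_eq_zero]
    intro z hz
    obtain ⟨t, ⟨_, k, rfl⟩, rfl⟩ := IsLocalization.exists_mk'_eq (Submonoid.powers s) z
    rw [IsLocalization.lift_mk', Units.mul_left_eq_zero] at hz
    rw [IsLocalization.mk'_eq_zero_iff]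
    exact ⟨1, by rw [hj (hz.trans (map_zero j).symm), mul_zero]⟩
  have hjsC : ∀ t : C, js (algebraMap C Cs t) = j t := fun t => IsLocalization.lift_eq hjs t
  let φ : A →+* C := (algebraMap D C).comp π
  have hjA : ∀ a : A, js (algebraMap C Cs (φ a)) = β (algebraMap A B a) := fun a => by
    rw [hjsC, hβA]; exact j.commutes (π a)
  have hrange : ∀ b : B, β b ∈ js.range := by
    intro b
    have hb : b ∈ Algebra.adjoin A (G : Set B) := hG ▸ Algebra.mem_top
    induction hb using Algebra.adjoin_induction with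
    | mem y hy =>
      obtain ⟨b', hb'⟩ := hΛ (β y) (Finset.mem_image_of_mem _ hy)
      obtain ⟨v, hv⟩ := IsLocalization.map_units Cs (⟨s, Submonoid.mem_powers s⟩ : Submonoid.powers s)
      refine ⟨algebraMap C Cs b' * ↑v⁻¹, ?_⟩
      have h1 : js ↑v * js ↑v⁻¹ = 1 := by rw [← map_mul, Units.mul_inv, map_one]
      rw [map_mul, hjsC, ← hb', ← hjsC s, show algebraMap C Cs s = v from hv.symm,
        mul_right_comm, h1, one_mul]
    | algebraMap a => exact ⟨_, hjA a⟩
    | add a a' _ _ ha ha' => rw [map_add]; exact add_mem ha ha'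
    | mul a a' _ _ ha ha' => rw [map_mul]; exact mul_mem ha ha'
  let δ : B →+* Cs := (RingEquiv.ofBijective js.rangeRestrict
    ⟨fun a b h => hjsinj (congrArg Subtype.val h), js.rangeRestrict_surjective⟩).symm.toRingHom.comp
      (β.codRestrict js.range hrange)
  have hδ : ∀ b, js (δ b) = β b := fun b => by
    exact congrArg Subtype.val ((RingEquiv.ofBijective js.rangeRestrict
      ⟨fun a b h => hjsinj (congrArg Subtype.val h), js.rangeRestrict_surjective⟩).apply_symm_apply
        ⟨β b, hrange b⟩)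
  refine ⟨C, inferInstance, ‹_›, φ, c, hc, s, δ, hint,
    (RingHom.finiteType_algebraMap.mpr hft).comp (RingHom.FiniteType.of_surjective π hπ), ?_, hc1,
    hsc, huniq, fun b hb => hjsinj ?_, RingHom.ext fun a => hjsinj ?_⟩
  · rw [← Ideal.comap_comap, hcm, hcomap]
  · rw [hδ, map_zero]
    change β₁ (Ideal.Quotient.mk I b) = 0
    rw [Ideal.Quotient.eq_zero_iff_mem.mpr (le_sup_left (b := q.map (algebraMap A B)) hb), map_zero]
  · exact (hδ _).trans (hjA a).symm

/-- A normal curve detecting a non-closed image. -/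
theorem exists_curve_image {S T P : Scheme.{u}}
    (hS : ∀ W : S.Opens, IsAffineOpen W → CAlg.IsNagata Γ(S, W)) (π : T ⟶ S) [LocallyOfFiniteType π]
    (g' : P ⟶ T) [LocallyOfFiniteType g'] [QuasiCompact g'] (Z : Set P) (hZ : IsClosed Z)
    (hnc : ¬ IsClosed (g'.base '' Z)) :
    ∃ (C : CommRingCat.{u}) (_ : IsDomain C) (γ : Spec C ⟶ T) (c : Spec C) (U : (Spec C).Opens)
      (u : (U : Scheme.{u}) ⟶ P),
      LocallyOfFiniteType (γ ≫ π) ∧ QuasiCompact (γ ≫ π) ∧
      (∀ x : Spec C, IsIntegrallyClosed ((Spec C).presheaf.stalk x)) ∧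
      IsClosed ({c} : Set (Spec C)) ∧ ringKrullDim ((Spec C).presheaf.stalk c) = 1 ∧
      (U : Set (Spec C)) = {c}ᶜ ∧ u ≫ g' = U.ι ≫ γ ∧ (∀ z, u.base z ∈ Z) ∧
      γ.base c ∉ g'.base '' Z := by
  classical
  have hTN : ∀ V : T.Opens, IsAffineOpen V → CAlg.IsNagata Γ(T, V) :=
    NagataUJ.isNagata_of_lft π hS
  have : IsLocallyNoetherian T := ⟨fun V => (hTN V V.2).1⟩
  have : IsLocallyNoetherian P := LocallyOfFiniteType.isLocallyNoetherian g'
  have := UnivClosed.locallyOfFinitePresentation_of_isLocallyNoetherian g'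
  set E := g'.base '' Z
  have hEc : IsLocallyConstructible E :=
    g'.isLocallyConstructible_image (UnivClosed.isLocallyConstructible_of_isClosed hZ)
  obtain ⟨y, hy, hyE⟩ : ∃ y, y ∈ closure E ∧ y ∉ E := Set.not_subset.mp fun h => hnc
    (closure_eq_iff_isClosed.mp (Set.Subset.antisymm h subset_closure))
  obtain ⟨V, hV, hyV, -⟩ := T.isBasis_affineOpens.exists_subset_of_mem_open (Set.mem_univ y) isOpen_univ
  obtain ⟨V, hV, rfl⟩ := hV
  let A₀ := Γ(T, V)
  have hA₀ : CAlg.IsNagata A₀ := hTN V hV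
  have := hA₀.1
  have : IsOpenImmersion hV.fromSpec := hV.isOpenImmersion_fromSpec
  have hyr : y ∈ Set.range hV.fromSpec.base := by rw [hV.range_fromSpec]; exact hyV
  obtain ⟨y', rfl⟩ := hyr
  let E₀ : Set (PrimeSpectrum A₀) := hV.fromSpec.base ⁻¹' E
  have hE₀ : IsConstructible E₀ :=
    (hEc.preimage_of_isOpenEmbedding hV.fromSpec.isOpenEmbedding).isConstructible
  have hy' : y' ∈ closure E₀ := by
    change y' ∈ closure (hV.fromSpec.base ⁻¹' E)
    rw [← hV.fromSpec.isOpenEmbedding.isOpenMap.preimage_closure_eq_closure_preimage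
      hV.fromSpec.isOpenEmbedding.continuous]
    exact hy
  obtain ⟨f, m, hm, hmcl, hmE⟩ := exists_closure_point hE₀ hy' hyE
  -- shrink to `D(f)`
  let A := Localization.Away f
  have hA : CAlg.IsNagata A := NagataLib.isNagata_localization hA₀ (Submonoid.powers f) A
  have := hA.1
  let e : Spec (CommRingCat.of A) ⟶ Spec A₀ := Spec.map (CommRingCat.ofHom (algebraMap A₀ A))
  have : IsOpenImmersion e := IsOpenImmersion.of_isLocalization f
  let jj : Spec (CommRingCat.of A) ⟶ T := e ≫ hV.fromSpec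
  let E' : Set (PrimeSpectrum A) := jj.base ⁻¹' E
  have hE' : IsConstructible E' :=
    (hEc.preimage_of_isOpenEmbedding jj.isOpenEmbedding).isConstructible
  have hmcl' : m ∈ closure E' := by
    change m ∈ closure (e.base ⁻¹' (hV.fromSpec.base ⁻¹' E))
    rw [← e.isOpenEmbedding.isOpenMap.preimage_closure_eq_closure_preimage e.isOpenEmbedding.continuous]
    exact hmcl
  have hmE' : m ∉ E' := hmE
  obtain ⟨p, g, hpm, hgp, hgm, hpg⟩ := exists_prime_constructible hE' hmcl' hmE'
  obtain ⟨q, hq, hpq, hqm, hgq, hmax⟩ := exists_prime_cut hpm hgp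
  have hqE : (⟨q, hq⟩ : PrimeSpectrum A) ∈ E' := hpg ⟨q, hq⟩ hpq hgq
  obtain ⟨z, hzZ, hz⟩ := hqE
  obtain ⟨W, hW, hzW, hWle⟩ := P.isBasis_affineOpens.exists_subset_of_mem_open
    (show z ∈ (g' ⁻¹ᵁ jj.opensRange : Set P) from ⟨_, hz.symm⟩) (g' ⁻¹ᵁ jj.opensRange).isOpen
  obtain ⟨W, hW, rfl⟩ := hW
  have : IsOpenImmersion hW.fromSpec := hW.isOpenImmersion_fromSpec
  let w := hW.fromSpec
  have hwr : Set.range (w ≫ g').base ⊆ Set.range jj.base := by
    rintro _ ⟨x, rfl⟩
    have : w.base x ∈ (W : Set P) := hW.range_fromSpec ▸ Set.mem_range_self x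
    exact hWle this
  let ψ' := IsOpenImmersion.lift jj (w ≫ g') hwr
  have hψ' : ψ' ≫ jj = w ≫ g' := IsOpenImmersion.lift_fac _ _ _
  have hψ'ft : LocallyOfFiniteType ψ' := by
    have : LocallyOfFiniteType (ψ' ≫ jj) := by rw [hψ']; infer_instance
    exact locallyOfFiniteType_of_comp ψ' jj
  let ψ : CommRingCat.of A ⟶ Γ(P, W) := Spec.preimage ψ'
  have hψ : Spec.map ψ = ψ' := Spec.map_preimage ψ'
  let := ψ.hom.toAlgebra
  have : Algebra.FiniteType A Γ(P, W) := by
    rw [← hψ] at hψ'ft
    exact (HasRingHomProperty.Spec_iff (P := @LocallyOfFiniteType)).mp hψ'ft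
  obtain ⟨zp, hzp⟩ : z ∈ Set.range w.base := by rw [hW.range_fromSpec]; exact hzW
  let J : Ideal Γ(P, W) := PrimeSpectrum.vanishingIdeal (w.base ⁻¹' Z)
  have hJZ : PrimeSpectrum.zeroLocus (J : Set Γ(P, W)) = w.base ⁻¹' Z :=
    (PrimeSpectrum.zeroLocus_vanishingIdeal_eq_closure _).trans
      (hZ.preimage w.continuous).closure_eq
  let zq : PrimeSpectrum Γ(P, W) := zp
  have hJP : J ≤ zq.asIdeal := by
    have : zq ∈ w.base ⁻¹' Z := show w.base zp ∈ Z by rwa [hzp]
    rw [← hJZ] at this
    exact this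
  have hP : zq.asIdeal.comap (algebraMap A Γ(P, W)) = q := by
    have h1 : jj.base ((Spec.map ψ).base zp) = jj.base ⟨q, hq⟩ := by
      rw [← hz, ← hzp, hψ, ← Scheme.Hom.comp_apply, hψ']
      rfl
    exact congrArg PrimeSpectrum.asIdeal (jj.isOpenEmbedding.injective h1)
  obtain ⟨C, _, _, φ, c, hc, s, δ, hint, hft, hcm, hc1, hsc, huniq, hδJ, hδ⟩ :=
    exists_curve_ring_lift hA J q m.asIdeal hqm hgq hgm hmax zq.asIdeal hJP hP
  have : IsNoetherianRing C :=
    let := φ.toAlgebra
    have : Algebra.FiniteType A C := hft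
    Algebra.FiniteType.isNoetherianRing A C
  have : NoetherianSpace (Spec (CommRingCat.of C)) :=
    inferInstanceAs (NoetherianSpace (PrimeSpectrum C))
  have : LocallyOfFiniteType (Spec.map (CommRingCat.ofHom φ)) :=
    (HasRingHomProperty.Spec_iff (P := @LocallyOfFiniteType)).mpr hft
  let γ := Spec.map (CommRingCat.ofHom φ) ≫ jj
  let c₀ : Spec (CommRingCat.of C) := ⟨c, hc.isPrime⟩
  let U : (Spec (CommRingCat.of C)).Opens := PrimeSpectrum.basicOpen s
  let i := basicOpenIsoSpecAway (R := CommRingCat.of C) s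
  let u : (U : Scheme.{u}) ⟶ P := i.hom ≫ Spec.map (CommRingCat.ofHom δ) ≫ w
  refine ⟨CommRingCat.of C, ‹_›, γ, c₀, U, u, inferInstance, inferInstance, fun x => ?_,
    (PrimeSpectrum.isClosed_singleton_iff_isMaximal c₀).mpr hc, ?_, ?_, ?_, fun x => ?_, ?_⟩
  · let x' : PrimeSpectrum C := x
    have : IsIntegrallyClosed (Localization.AtPrime x'.asIdeal) :=
      isIntegrallyClosed_of_isLocalization _ x'.asIdeal.primeCompl
        x'.asIdeal.primeCompl_le_nonZeroDivisors
    exact IsIntegrallyClosed.of_equiv (specStalkEquiv C x')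
  · have hd : ringKrullDim (Localization.AtPrime c) = 1 := by
      rw [IsLocalization.AtPrime.ringKrullDim_eq_height c (Localization.AtPrime c), hc1]; rfl
    exact (ringKrullDim_eq_of_ringEquiv
      (specStalkEquiv C (⟨c, hc.isPrime⟩ : PrimeSpectrum C)).symm).trans hd
  · ext x
    change s ∉ x.asIdeal ↔ x ≠ c₀
    exact ⟨fun h e => h (e ▸ hsc), fun h h' => h (PrimeSpectrum.ext (huniq x.asIdeal x.2 h'))⟩
  · have e1 : Spec.map (CommRingCat.ofHom δ) ≫ Spec.map ψ =
        Spec.map (CommRingCat.ofHom (algebraMap C (Localization.Away s))) ≫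
          Spec.map (CommRingCat.ofHom φ) := by
      rw [← Spec.map_comp, ← Spec.map_comp]
      exact congrArg Spec.map (CommRingCat.hom_ext hδ)
    simp only [u, γ, Category.assoc]
    rw [← hψ', ← hψ, reassoc_of% e1]
    exact basicOpenIsoSpecAway_hom_SpecMap_assoc (R := CommRingCat.of C) s _
  · let y : PrimeSpectrum Γ(P, W) := (Spec.map (CommRingCat.ofHom δ)).base (i.hom.base x)
    have hy : y ∈ w.base ⁻¹' Z := by
      rw [← hJZ]
      intro b hb
      change δ b ∈ (i.hom.base x).asIdeal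
      rw [hδJ b hb]
      exact zero_mem _
    exact hy
  · have e : (Spec.map (CommRingCat.ofHom φ)).base c₀ = m := PrimeSpectrum.ext hcm
    change jj.base ((Spec.map (CommRingCat.ofHom φ)).base c₀) ∉ E
    rw [e]
    exact hmE'

end Groth.Agent.CurveCut
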